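import Groth.Prelude.Def_DualGr
import Mathlib

set_option autoImplicit false
universe u

namespace Groth.Agent.GenLatticeLib

variable {V E : Type u} [Fintype V] [Fintype E] [DecidableEq V] [DecidableEq E]

theorem quot_torsionFree (ends : E → V × V) {n : ℕ} (D : Fin n → Finset E) (hcover : ∀ e : E, ∃ i : Fin n, e ∉ D i) :
    IsAddTorsionFree (((i : Fin n) → ↥(DualGr.cycleLattice (DualGr.ctrEnds ends (D i)))) ⧸
      LinearMap.range (LinearMap.pi fun i : Fin n => DualGr.genMap ends (D i))) := by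
  classical
  refine ⟨fun m hm a b hab => ?_⟩
  obtain ⟨x, rfl⟩ := Submodule.Quotient.mk_surjective _ a
  obtain ⟨y, rfl⟩ := Submodule.Quotient.mk_surjective _ b
  simp only at hab
  rw [← Submodule.Quotient.mk_smul, ← Submodule.Quotient.mk_smul, Submodule.Quotient.eq] at hab
  rw [Submodule.Quotient.eq]
  obtain ⟨z, hz⟩ := hab
  have hz' : ∀ (i : Fin n) (e : DualGr.CtrEdge (D i)), z.1 e.1 = (m : ℤ) * ((x - y) i).1 e := by
    intro i e
    have h := congrArg (fun w => (w i).1 e) hz
    simpa [DualGr.genMap, DualGr.resE, mul_sub] using h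
  choose j hj using hcover
  let w : E → ℤ := fun e => ((x - y) (j e)).1 ⟨e, hj e⟩
  have hw : z.1 = m • w := by
    funext e
    rw [Pi.smul_apply, nsmul_eq_mul]
    exact hz' (j e) ⟨e, hj e⟩
  have hwm : w ∈ DualGr.cycleLattice ends := by
    have h : DualGr.boundaryHom ends z.1 = 0 := z.2
    rw [hw, map_nsmul] at h
    exact (smul_eq_zero.mp h).resolve_left hm
  refine ⟨⟨w, hwm⟩, funext fun i => Subtype.ext (funext fun e => ?_)⟩
  have h := hz' i e
  rw [hw, Pi.smul_apply, nsmul_eq_mul] at h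
  exact mul_left_cancel₀ (by exact_mod_cast hm) h

end Groth.Agent.GenLatticeLib
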